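import Groth.Agent.DCat.PullTensor
import Groth.Agent.EulerLib.Twist
import Groth.Agent.Coherent.Serre.AmpleCover
import Groth.Agent.Coherent.RpushSupport
import Groth.Prelude.Def_LCI2

set_option autoImplicit false
set_option backward.isDefEq.respectTransparency false

universe u

open CategoryTheory CategoryTheory.Abelian CategoryTheory.Limits AlgebraicGeometry Opposite
  TopologicalSpace MonoidalCategory
open Groth.Agent.Coherent Groth.Agent.PicLib Groth.Agent.AmpleLib

namespace Groth.Agent.Coherent.RelExact14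

variable {X : Scheme.{u}}

theorem tensorRightMod_map {M N : X.Modules} (P : X.Modules) (φ : M ⟶ N) :
    (DCoh.tensorRightMod P).map φ = tensorMap φ (𝟙 P) := by
  refine AmpleLib.hom_ext fun U a b => ?_
  refine Eq.trans ?_ (tensorMap_tmul φ (𝟙 P) a b).symm
  exact (congrArg (fun t => PresheafOfModules.Hom.app t (op U)) ((PresheafOfModules.sheafificationAdjunction.{u, u, u, u} (R := X.ringCatSheaf)
    (𝟙 X.ringCatSheaf.obj)).unit.naturality (DCoh.toP.map φ ▷ DCoh.toP.obj P))|> fun e =>
      (ConcreteCategory.congr_hom e (ModStalk.secTmul (DCoh.toP.obj M) (DCoh.toP.obj P) a b))).symm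

/-- Sections of a short exact sequence are surjective when `H¹` of the kernel vanishes. -/
theorem app_surjective_of_H' {S : ShortComplex X.Modules} (hS : S.ShortExact) (U : X.Opens)
    (h : Subsingleton (Sheaf.H' (Coh.toAb S.X₁) 1 U)) : Function.Surjective (S.g.app U) := by
  intro a
  have hS' := toAb_shortExact hS
  let A := freeSh (X := X.toTopCat) U
  let e := secH (X := X.toTopCat) (Coh.toAb S.X₃) U
  obtain ⟨y, hy⟩ := Ext.covariant_sequence_exact₃ A hS' (e.symm a) (rfl : 0 + 1 = 1) (h.elim _ _)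
  refine ⟨secH (X := X.toTopCat) (Coh.toAb S.X₂) U y, ?_⟩
  refine ((secH_postH (X := X.toTopCat) (F := Coh.toAb S.X₂) (G := Coh.toAb S.X₃)
    ((toAbFunctor X).map S.g) U y).symm.trans ?_).trans (e.apply_symm_apply a)
  exact congrArg e hy

/-- Exactness of twisted sections, given a vanishing for the kernel. -/
theorem exact_sections {C : ShortComplex X.Modules} (hC : C.Exact) {P : X.Modules} (hP : PicF.IsInvertible P)
    (W : X.Opens)
    (hv : Subsingleton (Sheaf.H' (Coh.toAb (CohB1.tensorMod (kernel C.f) P)) 1 W))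
    (y : Γ(CohB1.tensorMod C.X₂ P, W)) (hy : (tensorMap C.g (𝟙 P)).app W y = 0) :
    ∃ x : Γ(CohB1.tensorMod C.X₁ P, W), (tensorMap C.f (𝟙 P)).app W x = y := by
  let κ := kernel.ι C.g
  let e : C.X₁ ⟶ kernel C.g := kernel.lift C.g C.f C.zero
  have he : Epi e := (C.exact_iff_epi_kernel_lift).1 hC
  let I := Abelian.coimage C.g
  have hI : (ShortComplex.mk κ (cokernel.π κ) (cokernel.condition κ)).ShortExact :=
    { exact := ShortComplex.exact_of_g_is_cokernel _ (cokernelIsCokernel _) }
  have : Mono (Abelian.factorThruCoimage C.g) := inferInstance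
  have hy' : (tensorMap (cokernel.π κ) (𝟙 P)).app W y = 0 := by
    have := EulerLib.mono_tensorMap hP (Abelian.factorThruCoimage C.g)
    refine app_injective_of_mono (tensorMap (Abelian.factorThruCoimage C.g) (𝟙 P)) W ?_
    rw [map_zero, ← hy]
    refine Eq.trans ?_ (congrArg (fun m => (tensorMap m (𝟙 P)).app W y) (Abelian.coimage.fac C.g))
    rw [← ConcreteCategory.comp_apply, ← Scheme.Modules.Hom.comp_app]
    refine congrArg (fun m : CohB1.tensorMod C.X₂ P ⟶ CohB1.tensorMod C.X₃ P => m.app W y) ?_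
    refine AmpleLib.hom_ext fun U a b => ?_
    rw [Scheme.Modules.Hom.comp_app, ConcreteCategory.comp_apply, tensorMap_tmul, tensorMap_tmul, tensorMap_tmul]
    rfl
  obtain ⟨z, hz⟩ := sections_exact (EulerLib.twistSeq_shortExact hP hI) y hy'
  let S : ShortComplex X.Modules := ShortComplex.mk (kernel.ι e) e (kernel.condition e)
  have hS : S.ShortExact :=
    { exact := ShortComplex.exact_of_f_is_kernel _ (kernelIsKernel _), epi_g := he }
  let ι : kernel e ≅ kernel C.f :=
    (kernelCompMono e κ).symm ≪≫ kernelIsoOfEq (kernel.lift_ι C.g C.f C.zero)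
  have hv' : Subsingleton (Sheaf.H' (Coh.toAb (CohB1.tensorMod (kernel e) P)) 1 W) :=
    subsingleton_H'_of_iso (tensorIso ι.symm (Iso.refl P)) 1 W hv
  obtain ⟨x, hx⟩ := app_surjective_of_H' (EulerLib.twistSeq_shortExact hP hS) W hv' z
  refine ⟨x, ?_⟩
  rw [← hz, ← hx]
  refine Eq.trans ?_ (ConcreteCategory.comp_apply _ _ x)
  rw [← Scheme.Modules.Hom.comp_app]
  refine congrArg (fun m : CohB1.tensorMod C.X₁ P ⟶ CohB1.tensorMod C.X₂ P => m.app W x) ?_
  refine AmpleLib.hom_ext fun U a b => ?_
  show (tensorMap C.f (𝟙 P)).app U (tmul a b) = (tensorMap e (𝟙 P) ≫ tensorMap κ (𝟙 P)).app U (tmul a b)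
  rw [Scheme.Modules.Hom.comp_app, ConcreteCategory.comp_apply, tensorMap_tmul, tensorMap_tmul, tensorMap_tmul]
  refine congrArg₂ tmul ?_ rfl
  exact (congrArg (fun m : C.X₁ ⟶ C.X₂ => m.app U a) (kernel.lift_ι C.g C.f C.zero)).symm

end Groth.Agent.Coherent.RelExact14
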