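import Groth.Agent.Coherent.RelExact14.GenSpan
import Groth.Agent.Coherent.QcohOps
import Mathlib.AlgebraicGeometry.Morphisms.Flat

set_option autoImplicit false
set_option backward.isDefEq.respectTransparency false

universe u

open CategoryTheory CategoryTheory.Limits AlgebraicGeometry Opposite TopologicalSpace
open Groth.Agent.Coherent Groth.Agent.PicLib Groth.Agent.AmpleLib

namespace Groth.Agent.Coherent.RelExact14

/-- Direct image along a base change of an affine morphism of a module spanned by global sections. -/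
theorem globallyGenerated_push {X X' Y Y' : Scheme.{u}} {f : X ⟶ Y} {g : Y' ⟶ Y} {g' : X' ⟶ X} {f' : X' ⟶ Y'}
    (hsq : IsPullback g' f' f g) [IsAffineHom g] [IsAffineHom g'] {V : Y.Opens} (hV : IsAffineOpen V)
    (hle : ∀ x, f x ∈ V) (M : X'.Modules)
    (hM : ∀ (W : X'.Opens), IsAffineOpen W → ∀ a : Γ(M, W), a ∈ globalSpan M W) :
    Curv2.IsGloballyGenerated ((Coh.push g').obj M) := by
  refine isGloballyGenerated_of_locally fun y => ?_
  obtain ⟨W₀, hW₀, hy, -⟩ := Opens.isBasis_iff_nbhd.mp X.isBasis_affineOpens (Opens.mem_top y)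
  refine ⟨W₀, hy, fun W _ a z hz => ?_⟩
  obtain ⟨U, hU, hzU, hUW⟩ := Opens.isBasis_iff_nbhd.mp X.isBasis_affineOpens hz
  refine ⟨U, hUW, hzU, ?_⟩
  generalize resM ((Coh.push g').obj M) hUW a = b
  have h1 : U ≤ f ⁻¹ᵁ V := fun x _ => hle x
  have h3 : g' ⁻¹ᵁ U = g' ⁻¹ᵁ U ⊓ f' ⁻¹ᵁ (g ⁻¹ᵁ V) := by
    refine (inf_eq_left.2 fun x hx => ?_).symm
    show g (f' x) ∈ V
    rw [← Scheme.Hom.comp_apply, ← hsq.w, Scheme.Hom.comp_apply]
    exact hle _
  have := isIso_pushoutSection_of_isAffineOpen hsq le_rfl h1 h3 hV (hV.preimage g) hU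
  have hp := (isIso_pushoutSection_iff hsq le_rfl h1 h3).1 this
  let _ : Algebra Γ(Y, V) Γ(X, U) := (f.appLE V U h1).hom.toAlgebra
  let _ : Algebra Γ(Y, V) Γ(Y', g ⁻¹ᵁ V) := (g.appLE V (g ⁻¹ᵁ V) le_rfl).hom.toAlgebra
  let R := Γ(X', g' ⁻¹ᵁ U)
  let _ : Algebra Γ(X, U) R := (g'.appLE U (g' ⁻¹ᵁ U) le_rfl).hom.toAlgebra
  let _ : Algebra Γ(Y', g ⁻¹ᵁ V) R := (f'.appLE (g ⁻¹ᵁ V) (g' ⁻¹ᵁ U) (h3.le.trans inf_le_right)).hom.toAlgebra
  let _ : Algebra Γ(Y, V) R := ((g'.appLE U (g' ⁻¹ᵁ U) le_rfl).hom.comp (f.appLE V U h1).hom).toAlgebra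
  have : IsScalarTower Γ(Y, V) Γ(X, U) R := .of_algebraMap_eq fun _ => rfl
  have : IsScalarTower Γ(Y, V) Γ(Y', g ⁻¹ᵁ V) R := .of_algebraMap_eq fun r => ConcreteCategory.congr_hom hp.w r
  have hP : Algebra.IsPushout Γ(Y, V) Γ(X, U) Γ(Y', g ⁻¹ᵁ V) R := CommRingCat.isPushout_iff_isPushout.1 hp
  have hle' : (⊤ : X'.Opens) ≤ f' ⁻¹ᵁ (g ⁻¹ᵁ V) := fun x _ => by
    show g (f' x) ∈ V
    rw [← Scheme.Hom.comp_apply, ← hsq.w, Scheme.Hom.comp_apply]
    exact hle _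
  let T : Submodule Γ(X, U) Γ((Coh.push g').obj M, U) := globalSpan ((Coh.push g').obj M) U
  let toP : Γ(M, g' ⁻¹ᵁ U) → Γ((Coh.push g').obj M, U) := fun x => x
  have hcT : ∀ (c : R) (s : Γ(M, ⊤)), toP (c • resM M (le_top : g' ⁻¹ᵁ U ≤ ⊤) s) ∈ T := by
    intro c s
    refine hP.out.inductionOn c (fun c : R => toP (c • resM M (le_top : g' ⁻¹ᵁ U ≤ ⊤) s) ∈ T) ?_ ?_ ?_ ?_
    · rw [zero_smul]; exact T.zero_mem
    · intro c'
      refine Submodule.subset_span ⟨(f'.appLE (g ⁻¹ᵁ V) ⊤ hle' c' • s : Γ(M, ⊤)), ?_⟩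
      show resM M le_top (f'.appLE (g ⁻¹ᵁ V) ⊤ hle' c' • s) =
        f'.appLE (g ⁻¹ᵁ V) (g' ⁻¹ᵁ U) _ c' • resM M le_top s
      rw [resM_smul]
      exact congrArg (fun r : R => r • resM M (le_top : g' ⁻¹ᵁ U ≤ ⊤) s)
        (ConcreteCategory.congr_hom (Scheme.Hom.appLE_map f' hle' (homOfLE le_top).op) c')
    · intro a n hn
      let x : Γ(M, g' ⁻¹ᵁ U) := resM M (le_top : g' ⁻¹ᵁ U ≤ ⊤) s
      have e : toP ((a • n) • x) = a • toP (n • x) := by
        show (g'.appLE U (g' ⁻¹ᵁ U) le_rfl a * n) • x = (show R from g'.app U a) • (n • x)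
        rw [Scheme.Hom.appLE_eq_app, mul_smul]
      show toP ((a • n) • x) ∈ T
      rw [e]
      exact T.smul_mem a hn
    · intro c₁ c₂ h₁ h₂
      rw [add_smul]; exact T.add_mem h₁ h₂
  have key : ∀ x ∈ globalSpan M (g' ⁻¹ᵁ U), ∀ c : R, toP (c • x) ∈ T := by
    intro x hx
    induction hx using Submodule.span_induction with
    | mem x hx => obtain ⟨s, rfl⟩ := hx; exact fun c => hcT c s
    | zero => intro c; rw [smul_zero]; exact T.zero_mem
    | add x y _ _ hx hy => intro c; rw [smul_add]; exact T.add_mem (hx c) (hy c)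
    | smul d x _ hx => intro c; rw [smul_smul]; exact hx _
  have hb := key (show Γ(M, g' ⁻¹ᵁ U) from b) (hM (g' ⁻¹ᵁ U) (hU.preimage g') _) 1
  rw [one_smul] at hb
  exact hb

end Groth.Agent.Coherent.RelExact14
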