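import Groth.Agent.Coherent.RelExact14.Vanish
import Groth.Agent.Coherent.RelExact14.PushGen
import Groth.Agent.Coherent.RpushVanish
import Groth.Agent.Coherent.HigherQcoh
import Groth.Agent.AmpleLib.CounitEpi

set_option autoImplicit false
set_option backward.isDefEq.respectTransparency false

universe u

open CategoryTheory CategoryTheory.Limits AlgebraicGeometry Opposite TopologicalSpace
open Groth.Agent.Coherent Groth.Agent.PicLib Groth.Agent.AmpleLib

namespace Groth.Agent.Coherent.RelExact14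

theorem isProper_resLE {X Y : Scheme.{u}} (f : X ⟶ Y) [IsProper f] (V : Y.Opens) (U : X.Opens)
    (h : U = f ⁻¹ᵁ V) : IsProper (f.resLE V U h.le) := by
  subst h
  rw [Scheme.Hom.resLE_eq_morphismRestrict]
  exact MorphismProperty.of_isPullback (P := @IsProper) (isPullback_morphismRestrict f V).flip inferInstance

variable {X Y X' Y' : Scheme.{u}} {f : X ⟶ Y} {g : Y' ⟶ Y} {g' : X' ⟶ X} {f' : X' ⟶ Y'}

/-- Vanishing and generation over an affine open, for direct images along affine base changes. -/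
theorem exists_local (hsq : IsPullback g' f' f g) [IsProper f] [IsAffineHom g] [LocallyOfFiniteType g]
    [IsLocallyNoetherian Y] {L : X.Modules} (hL : PicF.IsInvertible L) (hamp : RelAmple.IsRelAmple f L)
    {G : X'.Modules} (hG : Coh.IsCoh G) (V : Y.affineOpens) :
    ∃ N : ℕ, ∀ n : ℕ, N ≤ n →
      (∀ p : ℕ, 0 < p → Subsingleton
        (Sheaf.H' (Coh.toAb (CohB1.tensorMod ((Coh.push g').obj G) (CohB1.tensorPow L n))) p (f ⁻¹ᵁ V.1))) ∧
      Curv2.IsGloballyGenerated
        ((CohB1.tensorMod ((Coh.push g').obj G) (CohB1.tensorPow L n)).restrict (f ⁻¹ᵁ V.1).ι) := by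
  have : IsAffineHom g' := MorphismProperty.IsStableUnderBaseChange.of_isPullback (P := @IsAffineHom) hsq.flip inferInstance
  have : IsProper f' := MorphismProperty.IsStableUnderBaseChange.of_isPullback (P := @IsProper) hsq inferInstance
  have : IsLocallyNoetherian Y' := LocallyOfFiniteType.isLocallyNoetherian g
  have : IsLocallyNoetherian X' := LocallyOfFiniteType.isLocallyNoetherian f'
  let P : X.Opens := f ⁻¹ᵁ V.1
  have : IsAffineHom (g' ∣_ P) := MorphismProperty.of_isPullback (P := @IsAffineHom)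
    (isPullback_morphismRestrict g' P).flip inferInstance
  let V' : Y'.affineOpens := ⟨g ⁻¹ᵁ V.1, V.2.preimage g⟩
  let Q : X'.Opens := g' ⁻¹ᵁ P
  have hQ : Q = f' ⁻¹ᵁ V'.1 := by
    show g' ⁻¹ᵁ (f ⁻¹ᵁ V.1) = f' ⁻¹ᵁ (g ⁻¹ᵁ V.1)
    rw [← Scheme.Hom.comp_preimage, ← Scheme.Hom.comp_preimage, hsq.w]
  let π : Q.toScheme ⟶ Spec Γ(Y', V'.1) := f'.resLE V'.1 Q hQ.le ≫ V'.2.isoSpec.hom
  have : IsProper π := by
    have := isProper_resLE f' V'.1 Q hQ
    infer_instance
  let _ : Q.toScheme.Over (Spec (CommRingCat.of Γ(Y', V'.1))) := ⟨π⟩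
  have : IsProper (Q.toScheme ↘ Spec (CommRingCat.of Γ(Y', V'.1))) := ‹IsProper π›
  have hA : IsNoetherianRing Γ(Y', V'.1) := IsLocallyNoetherian.component_noetherian V'
  have hL' : CohB1.IsAmple ((Scheme.Modules.pullback (Q.ι ≫ g')).obj L) := by
    have h1 : CohB1.IsAmple ((Scheme.Modules.pullback P.ι).obj L) :=
      isAmple_of_iso ((Scheme.Modules.restrictFunctorIsoPullback P.ι).app L) (hamp.2 V)
    have h2 := isAmple_pullback_of_isAffineHom (g' ∣_ P) h1
    exact isAmple_of_iso ((Scheme.Modules.pullbackComp _ _).app L ≪≫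
      (Scheme.Modules.pullbackCongr (morphismRestrict_ι g' P)).app L) h2
  have hGQ : Coh.IsCoh (G.restrict Q.ι) := AmpleLib.isCoh_restrict Q.ι G hG
  obtain ⟨N₁, hN₁⟩ := Serre.exists_subsingleton_HH_twist Γ(Y', V'.1) hL' _ hGQ
  obtain ⟨N₂, hN₂⟩ := eventually_locally_span hL' _ hGQ
  refine ⟨max N₁ N₂, fun n hn => ?_⟩
  let Ln := CohB1.tensorPow L n
  have hP : FlatMod.IsFinLocFree Ln := fun x => by
    obtain ⟨U, hx, e⟩ := isFinLocFreeOfRank_one (isInvertible_tensorPow hL n) x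
    exact ⟨U, 1, hx, e⟩
  have := hG.1
  have : Coh.IsQCoh Ln := isQCoh_of_isInvertible (isInvertible_tensorPow hL n)
  have := EGA43.InjFibre.isQCoh_pullback g' Ln
  let M := CohB1.tensorMod ((Scheme.Modules.pullback g').obj Ln) G
  have : Coh.IsQCoh M := isQCoh_tensorMod _ _
  let eN : (Coh.push g').obj M ≅ CohB1.tensorMod ((Coh.push g').obj G) Ln :=
    ((projIso (f := g') hP).app G).symm ≪≫ tensorComm _ _
  obtain ⟨ep, -⟩ := exists_pullPowIso (Q.ι ≫ g') hL n
  let eM : M.restrict Q.ι ≅ CohB1.tensorMod (G.restrict Q.ι)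
      (CohB1.tensorPow ((Scheme.Modules.pullback (Q.ι ≫ g')).obj L) n) :=
    (Scheme.Modules.restrictFunctorIsoPullback Q.ι).app M ≪≫
      DCat.PullTensor.pullTensorIso Q.ι ((Scheme.Modules.pullback g').obj Ln) G ≪≫
      tensorIso ((Scheme.Modules.pullbackComp Q.ι g').app Ln ≪≫ ep)
        ((Scheme.Modules.restrictFunctorIsoPullback Q.ι).app G).symm ≪≫ tensorComm _ _
  refine ⟨fun p hp => ?_, ?_⟩
  · refine subsingleton_H'_of_iso eN p P ?_
    have h1 : Subsingleton (Coh.HH Q.toScheme (M.restrict Q.ι) p) :=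
      Serre.HH_subsingleton_of_iso Γ(Y', V'.1) eM.symm p (hN₁ n ((le_max_left _ _).trans hn) p hp)
    exact ((H'AffinePushEquiv g' M P p).toEquiv.subsingleton_congr).1
      ((HHonEquiv M Q p).toEquiv.subsingleton_congr.1 h1)
  · refine globallyGenerated_of_iso ((Scheme.Modules.restrictFunctor P.ι).mapIso eN) ?_
    refine globallyGenerated_of_iso ((pushRestrictIso g' P).app M).symm ?_
    let M' := CohB1.tensorMod (G.restrict Q.ι)
      (CohB1.tensorPow ((Scheme.Modules.pullback (Q.ι ≫ g')).obj L) n)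
    refine globallyGenerated_of_iso ((Coh.push (g' ∣_ P)).mapIso eM.symm) ?_
    have hq : Coh.IsQCoh M' := isQCoh_of_iso eM
    have hsq' : IsPullback (g' ∣_ P) (Q.ι ≫ f') (P.ι ≫ f) g :=
      (isPullback_morphismRestrict g' P).flip.flip.paste_vert hsq
    exact globallyGenerated_push hsq' V.2 (fun x => x.2) M'
      (fun W hW a => mem_globalSpan_of_locally M' (hN₂ n ((le_max_right _ _).trans hn)) hW a)

theorem subsingleton_H'_preimage_basicOpen (f : X ⟶ Y) [QuasiCompact f] [QuasiSeparated f]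
    {V : Y.Opens} (hV : IsAffineOpen V) (N : X.Modules) [Coh.IsQCoh N] (p : ℕ)
    (h : Subsingleton (Sheaf.H' (Coh.toAb N) p (f ⁻¹ᵁ V))) (r : Γ(Y, V)) :
    Subsingleton (Sheaf.H' (Coh.toAb N) p (f ⁻¹ᵁ Y.basicOpen r)) := by
  let U : X.Opens := f ⁻¹ᵁ V
  have : CompactSpace U.toScheme := isCompact_iff_compactSpace.mp (f.isCompact_preimage hV.isCompact)
  have : QuasiSeparatedSpace U.toScheme := by
    have : IsAffine V.toScheme := hV
    exact quasiSeparatedSpace_of_quasiSeparated (f ∣_ V)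
  let R : Γ(U.toScheme, ⊤) := U.topIso.inv (f.app V r)
  have h1 : Subsingleton (Sheaf.H' (Coh.toAb (N.restrict U.ι)) p (⊤ : U.toScheme.Opens)) :=
    ((H'ModRestrictEquiv U.ι N ⊤ p).trans (H'Congr (Coh.toAb N) p (Scheme.Opens.ι_image_top U))).toEquiv.subsingleton_congr.2 h
  have hl := isLocalizedModule_resHLin (N.restrict U.ι) R isCompact_univ
    (le_top : U.toScheme.basicOpen R ≤ ⊤) (top_inf_eq _).symm p
  have h2 : Subsingleton (HMod (N.restrict U.ι) (U.toScheme.basicOpen R) p) := by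
    refine subsingleton_of_forall_eq 0 fun y => ?_
    obtain ⟨⟨x, s⟩, hx⟩ := hl.surj y
    have hx0 : x = 0 := @Subsingleton.elim _ h1 _ _
    have hy : (s : Γ(U.toScheme, ⊤)) • y = 0 := by
      refine hx.trans ?_
      rw [hx0, map_zero]
    exact ((Module.End.isUnit_iff _).1 (hl.map_units s)).1 (hy.trans (map_zero _).symm)
  have e : U.ι ''ᵁ (U.toScheme.basicOpen R) = f ⁻¹ᵁ Y.basicOpen r := by
    rw [Scheme.preimage_basicOpen, Scheme.Opens.ι_image_basicOpen_topIso_inv]
  exact ((H'ModRestrictEquiv U.ι N _ p).trans (H'Congr (Coh.toAb N) p e)).toEquiv.subsingleton_congr.1 h2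

theorem eventually (hsq : IsPullback g' f' f g) [IsProper f] [IsAffineHom g] [LocallyOfFiniteType g]
    [AlgebraicGeometry.IsNoetherian Y] {L : X.Modules} (hL : PicF.IsInvertible L)
    (hamp : RelAmple.IsRelAmple f L) {G : X'.Modules} (hG : Coh.IsCoh G) :
    ∃ N : ℕ, ∀ n : ℕ, N ≤ n →
      (∀ p : ℕ, 0 < p →
        IsZero ((Coh.RpushAb f p).obj (Coh.toAb (CohB1.tensorMod ((Coh.push g').obj G) (CohB1.tensorPow L n))))) ∧
      Epi ((Scheme.Modules.pullbackPushforwardAdjunction f).counit.app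
        (CohB1.tensorMod ((Coh.push g').obj G) (CohB1.tensorPow L n))) := by
  classical
  obtain ⟨t, ht⟩ := (isCompact_univ (X := Y)).elim_finite_subcover
    (fun V : Y.affineOpens => (V.1 : Set Y)) (fun V => V.1.2) (fun y _ => by
      obtain ⟨V, hV, hy, -⟩ := Opens.isBasis_iff_nbhd.mp Y.isBasis_affineOpens (Opens.mem_top y)
      exact Set.mem_iUnion.2 ⟨⟨V, hV⟩, hy⟩)
  choose N hN using fun V : Y.affineOpens => exists_local hsq hL hamp hG V
  refine ⟨t.sup N, fun n hn => ⟨fun p hp => ?_, ?_⟩⟩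
  · have : IsAffineHom g' := MorphismProperty.IsStableUnderBaseChange.of_isPullback (P := @IsAffineHom) hsq.flip inferInstance
    have := hG.1
    have : Coh.IsQCoh (CohB1.tensorPow L n) := isQCoh_of_isInvertible (isInvertible_tensorPow hL n)
    have := isQCoh_push g' G
    have : Coh.IsQCoh (CohB1.tensorMod ((Coh.push g').obj G) (CohB1.tensorPow L n)) := isQCoh_tensorMod _ _
    refine isZero_rpushAb_of_basis f {W | ∃ V ∈ t, ∃ r : Γ(Y, V.1), W = Y.basicOpen r} ?_ _ p ?_
    · rw [Opens.isBasis_iff_nbhd]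
      intro O x hx
      obtain ⟨V, hV, hxV⟩ := Set.mem_iUnion₂.mp (ht (Set.mem_univ x))
      obtain ⟨r, hr, hxr⟩ := V.2.exists_basicOpen_le ⟨x, hx⟩ hxV
      exact ⟨_, ⟨V, hV, r, rfl⟩, hxr, hr⟩
    · rintro W ⟨V, hV, r, rfl⟩
      exact subsingleton_H'_preimage_basicOpen f V.2 _ p
        ((hN V n ((Finset.le_sup hV).trans hn)).1 p hp) r
  · refine epi_counit_of_globallyGenerated f _ fun x => ?_
    obtain ⟨V, hV, hy⟩ := Set.mem_iUnion₂.1 (ht (Set.mem_univ (f x)))
    exact ⟨V.1, hy, (hN V n ((Finset.le_sup hV).trans hn)).2⟩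

end Groth.Agent.Coherent.RelExact14
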