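import Groth.Agent.AmpleLib.Generated

set_option autoImplicit false
set_option backward.isDefEq.respectTransparency.types false

universe u

open CategoryTheory CategoryTheory.Limits AlgebraicGeometry Opposite TopologicalSpace
open Groth.Agent.Coherent Groth.Agent.PicLib Groth.Agent.AmpleLib

namespace Groth.Agent.Coherent.RelExact14

variable {X : Scheme.{u}}

/-- Locally spanned by global sections implies spanned by them on affine opens. -/
theorem mem_globalSpan_of_locally (M : X.Modules) [Coh.IsQCoh M]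
    (h : ∀ y : X, ∃ A : X.Opens, y ∈ A ∧ ∀ (W : X.Opens), W ≤ A → ∀ (a : Γ(M, W)), ∀ z ∈ W,
      ∃ (W' : X.Opens) (hle : W' ≤ W), z ∈ W' ∧ resM M hle a ∈ globalSpan M W')
    {W : X.Opens} (hW : IsAffineOpen W) (a : Γ(M, W)) : a ∈ globalSpan M W := by
  let I : Ideal Γ(X, W) := (globalSpan M W).comap (LinearMap.toSpanSingleton _ _ a)
  have hloc : ∀ z ∈ W, ∃ r : Γ(X, W), z ∈ X.basicOpen r ∧ ∃ n : ℕ, r ^ n • a ∈ globalSpan M W := by
    intro z hz
    obtain ⟨A, hzA, hA⟩ := h z
    obtain ⟨W', hle, hzW', hmem⟩ := hA (W ⊓ A) inf_le_right (resM M inf_le_left a) z ⟨hz, hzA⟩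
    obtain ⟨r, hrW', hzr⟩ := hW.exists_basicOpen_le (V := W') ⟨z, hzW'⟩ hz
    rw [resM_resM] at hmem
    have hm := resM_mem_globalSpan hrW' hmem
    rw [resM_resM] at hm
    have hfrac : ∀ x ∈ globalSpan M (X.basicOpen r), ∃ (k : ℕ), ∃ s ∈ globalSpan M W,
        X.presheaf.map (homOfLE (X.basicOpen_le r)).op (r ^ k) • x = resM M (X.basicOpen_le r) s := by
      intro x hx
      induction hx using Submodule.span_induction with
      | mem x hx =>
        obtain ⟨s, rfl⟩ := hx
        refine ⟨0, resM M le_top s, Submodule.subset_span ⟨s, rfl⟩, ?_⟩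
        rw [pow_zero, map_one, one_smul]
        exact (resM_resM _ _ _ _).symm
      | zero => exact ⟨0, 0, Submodule.zero_mem _, by rw [smul_zero, map_zero]⟩
      | add x y _ _ hx hy =>
        obtain ⟨k, s, hs, e⟩ := hx
        obtain ⟨l, t, ht, e'⟩ := hy
        refine ⟨k + l, r ^ l • s + r ^ k • t, Submodule.add_mem _ (Submodule.smul_mem _ _ hs)
          (Submodule.smul_mem _ _ ht), ?_⟩
        rw [map_add, resM_smul, resM_smul, ← e, ← e', smul_add, pow_add, map_mul, smul_smul, smul_smul,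
          mul_comm (X.presheaf.map (homOfLE (X.basicOpen_le r)).op (r ^ l))]
      | smul c x _ hx =>
        obtain ⟨k, s, hs, e⟩ := hx
        have := hW.isLocalization_basicOpen r
        obtain ⟨⟨b, ⟨_, l, rfl⟩⟩, hb⟩ := IsLocalization.surj (M := Submonoid.powers r) (R := Γ(X, W))
          (S := Γ(X, X.basicOpen r)) c
        replace hb : c * X.presheaf.map (homOfLE (X.basicOpen_le r)).op (r ^ l) =
          X.presheaf.map (homOfLE (X.basicOpen_le r)).op b := hb
        refine ⟨k + l, b • s, Submodule.smul_mem _ _ hs, ?_⟩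
        rw [resM_smul, ← e, ← hb, smul_smul, smul_smul, pow_add, map_mul]
        congr 1
        ring
    obtain ⟨k, s, hs, e⟩ := hfrac _ hm
    have h0 : resM M (X.basicOpen_le r) (r ^ k • a - s) = 0 := by
      rw [map_sub, resM_smul, ← e, sub_self]
    obtain ⟨m, hm'⟩ := qcoh_exists_pow_smul_eq_zero hW M r _ h0
    rw [smul_sub, sub_eq_zero, smul_smul, ← pow_add] at hm'
    exact ⟨r, hzr, m + k, hm' ▸ Submodule.smul_mem _ _ hs⟩
  have hI : I = ⊤ := by
    by_contra hne
    obtain ⟨m, hm, hle⟩ := Ideal.exists_le_maximal I hne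
    let z := hW.fromSpec ⟨m, hm.isPrime⟩
    obtain ⟨r, hzr, n, hn⟩ := hloc z (hW.range_fromSpec.le ⟨_, rfl⟩)
    have hrm : r ∉ m := by
      have : (⟨m, hm.isPrime⟩ : PrimeSpectrum Γ(X, W)) ∈ hW.fromSpec ⁻¹ᵁ X.basicOpen r := hzr
      rw [hW.fromSpec_preimage_basicOpen] at this
      exact this
    exact hrm (hm.isPrime.mem_of_pow_mem n (hle hn))
  have h1 : (1 : Γ(X, W)) ∈ I := hI ▸ Submodule.mem_top
  simpa [I] using h1

/-- Twists of a finite-type quasi-coherent module by an ample module are eventually generated. -/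
theorem eventually_locally_span {L : X.Modules} (hL : CohB1.IsAmple L) (F : X.Modules) (hF : Coh.IsCoh F) :
    ∃ N : ℕ, ∀ n, N ≤ n → ∀ y : X, ∃ A : X.Opens, y ∈ A ∧ ∀ (W : X.Opens), W ≤ A →
      ∀ (a : Γ(CohB1.tensorMod F (CohB1.tensorPow L n), W)), ∀ z ∈ W,
        ∃ (W' : X.Opens) (hle : W' ≤ W), z ∈ W' ∧ resM _ hle a ∈ globalSpan _ W' := by
  classical
  obtain ⟨hq, hfin⟩ := (isCoh_iff_finite_sections F).1 hF
  have := hq
  obtain ⟨hLi, hc, -⟩ := isAmple_iff_affGlocus.1 hL
  have key : ∀ x : X, ∃ (A : X.Opens) (N : ℕ), x ∈ A ∧ ∀ n, N ≤ n → ∀ (W : X.Opens), W ≤ A →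
      ∀ (a : Γ(CohB1.tensorMod F (CohB1.tensorPow L n), W)), ∀ z ∈ W,
        ∃ (W' : X.Opens) (hle : W' ≤ W), z ∈ W' ∧ resM _ hle a ∈ globalSpan _ W' := fun x => by
    obtain ⟨V, hxV, g, hg⟩ := exists_isGen hLi x
    obtain ⟨m, hm, b, hxb, hbV, hb⟩ := affGlocus_of_mem (x := x) (U := V) hL hxV
    let A := glocus _ b
    obtain ⟨r, f, hf⟩ := (hfin A hb).exists_fin
    have := fun i : Fin r => exists_twist_section hL F hm b (hg.restrict hbV) (f i)
    choose N hN using this
    refine ⟨A, Finset.univ.sup N, hxb, fun n hn W hW a z hz => ?_⟩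
    have hN' := fun i => hN i n ((Finset.le_sup (Finset.mem_univ i)).trans hn)
    choose u h hh hu using hN'
    by_cases hr : r = 0
    · subst hr
      obtain ⟨x₀, rfl⟩ := (bijective_tmul_gen (M := F) (isGen_powSec (hg.restrict hbV) n) W hW).2 a
      have hgen : GenOn F A fun i : ULift.{u} (Fin 0) => f i.down := genOn_of_span_top F hb _ (by
        rw [← hf]; congr 1; exact Equiv.ulift.surjective.range_comp f)
      obtain ⟨W', hle, hzW', c, hc⟩ := hgen W hW x₀ z hz
      refine ⟨W', hle, hzW', ?_⟩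
      rw [resM_tmul, hc]
      simp only [Finset.univ_eq_empty, Finset.sum_empty, tmul_zero_left]
      exact Submodule.zero_mem _
    · let i₀ : Fin r := ⟨0, Nat.pos_of_ne_zero hr⟩
      obtain ⟨x₀, rfl⟩ := (bijective_tmul_gen (M := F) (hh i₀) W hW).2 a
      have hgen : GenOn F A fun i : ULift.{u} (Fin r) => f i.down := genOn_of_span_top F hb _ (by
        rw [← hf]; congr 1; exact Equiv.ulift.surjective.range_comp f)
      obtain ⟨W', hle, hzW', c, hc⟩ := hgen W hW x₀ z hz
      refine ⟨W', hle, hzW', ?_⟩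
      rw [resM_tmul, hc, resM_resM]
      let Φ : Γ(F, W') →+ Γ(CohB1.tensorMod F (CohB1.tensorPow L n), W') :=
        AddMonoidHom.mk' (fun x => tmul x (resM _ (hle.trans hW) (h i₀))) fun x y => tmul_add_left x y _
      show Φ _ ∈ _
      rw [map_sum]
      refine Submodule.sum_mem _ fun i _ => ?_
      show tmul (c i • resM F (hle.trans hW) (f i.down)) (resM _ (hle.trans hW) (h i₀)) ∈ _
      obtain ⟨d, hd⟩ : ∃ d : Γ(X, W'), d • resM _ (hle.trans hW) (h i.down) = resM _ (hle.trans hW) (h i₀) :=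
        ((hh i.down) W' (hle.trans hW)).2 _
      rw [tmul_smul_left, ← hd, tmul_smul_right, ← resM_tmul, ← hu i.down, resM_resM]
      exact Submodule.smul_mem _ _ (Submodule.smul_mem _ _ (Submodule.subset_span ⟨_, rfl⟩))
  choose A N hxA hA using key
  obtain ⟨t, ht⟩ := isCompact_univ.elim_finite_subcover (fun x : X => (A x : Set X)) (fun x => (A x).2)
    fun x _ => Set.mem_iUnion.2 ⟨x, hxA x⟩
  refine ⟨t.sup N, fun n hn y => ?_⟩
  obtain ⟨x, hxt, hyx⟩ := Set.mem_iUnion₂.1 (ht (Set.mem_univ y))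
  exact ⟨A x, hyx, hA x n ((Finset.le_sup hxt).trans hn)⟩

end Groth.Agent.Coherent.RelExact14
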