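import Groth.Agent.Coherent.RelExact14.Sections
import Groth.Agent.Coherent.QcohOps
import Groth.Agent.Coherent.TensorQcoh
import Groth.Agent.Coherent.SupportPullback
import Groth.Agent.AmpleLib.Local
import Groth.Agent.AmpleLib.Relative

set_option autoImplicit false
set_option backward.isDefEq.respectTransparency false

universe u

open CategoryTheory CategoryTheory.Limits AlgebraicGeometry Opposite TopologicalSpace
open Groth.Agent.Coherent Groth.Agent.PicLib Groth.Agent.AmpleLib

namespace Groth.Agent.Coherent.RelExact14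

variable {X Y : Scheme.{u}} (f : X ⟶ Y)

/-- Serre vanishing over an affine open of the base, for modules with proper support. -/
theorem exists_vanish [IsLocallyNoetherian Y] [LocallyOfFiniteType f] {L : X.Modules}
    (hL : PicF.IsInvertible L) (hamp : RelAmple.IsRelAmple f L) {E : X.Modules} (hE : Coh.IsCoh E)
    (hs : ClSub.IsProperOver f (CohB1.support E)) (V : Y.affineOpens) :
    ∃ N : ℕ, ∀ n : ℕ, N ≤ n →
      Subsingleton (Sheaf.H' (Coh.toAb (CohB1.tensorMod E (CohB1.tensorPow L n))) 1 (f ⁻¹ᵁ V.1)) := by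
  have : IsLocallyNoetherian X := LocallyOfFiniteType.isLocallyNoetherian f
  have hft : CohB1.IsFT E := hE.2
  let J := annSheaf hE.1 hft
  have hk := killed_ker_annSheaf hE.1 hft
  let T := J.subscheme
  let i : T ⟶ X := J.subschemeι
  have : IsProper (i ≫ f) := by
    refine isProper_of_isProperOver f hs J.subschemeι ?_
    rw [J.range_subschemeι]
    exact support_annSheaf hE.1 hft
  have : IsLocallyNoetherian T := LocallyOfFiniteType.isLocallyNoetherian i
  let W := f ⁻¹ᵁ V.1
  let j : (i ⁻¹ᵁ W).toScheme ⟶ T := (i ⁻¹ᵁ W).ι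
  let π : (i ⁻¹ᵁ W).toScheme ⟶ Spec Γ(Y, V.1) := i ∣_ W ≫ f ∣_ V.1 ≫ V.2.isoSpec.hom
  have : IsProper π := by
    rw [show π = ((i ≫ f) ∣_ V.1) ≫ V.2.isoSpec.hom by rw [morphismRestrict_comp, Category.assoc]]
    have : IsProper ((i ≫ f) ∣_ V.1) := MorphismProperty.of_isPullback (P := @IsProper)
      (isPullback_morphismRestrict (i ≫ f) V.1).flip inferInstance
    infer_instance
  let _ : (i ⁻¹ᵁ W).toScheme.Over (Spec (CommRingCat.of Γ(Y, V.1))) := ⟨π⟩
  have : IsProper ((i ⁻¹ᵁ W).toScheme ↘ Spec (CommRingCat.of Γ(Y, V.1))) := ‹IsProper π›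
  have hA : IsNoetherianRing Γ(Y, V.1) := IsLocallyNoetherian.component_noetherian V
  have hL' : CohB1.IsAmple ((Scheme.Modules.pullback (j ≫ i)).obj L) := by
    have h1 : CohB1.IsAmple ((Scheme.Modules.pullback W.ι).obj L) :=
      isAmple_of_iso ((Scheme.Modules.restrictFunctorIsoPullback W.ι).app L) (hamp.2 V)
    have h2 := isAmple_pullback_of_isAffineHom (i ∣_ W) h1
    exact isAmple_of_iso ((Scheme.Modules.pullbackComp _ _).app L ≪≫
      (Scheme.Modules.pullbackCongr (morphismRestrict_ι i W)).app L) h2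
  let M := (Scheme.Modules.pullback i).obj E
  have hM : Coh.IsCoh M := isCoh_pullback_of_killed i hk hE
  let M' := (Scheme.Modules.pullback j).obj M
  have : IsLocallyNoetherian (i ⁻¹ᵁ W).toScheme := LocallyOfFiniteType.isLocallyNoetherian j
  have hM' : Coh.IsCoh M' := by
    refine isCoh_of_isQCoh_of_isFT _ (have := hM.1; EGA43.InjFibre.isQCoh_pullback j M) ?_
    exact isFT_pullback_qcoh j hM.1 hM.2
  obtain ⟨N, hN⟩ := Serre.exists_subsingleton_HH_twist Γ(Y, V.1) hL' M' hM'
  refine ⟨N, fun n hn => ?_⟩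
  let P := CohB1.tensorPow L n
  have hP : FlatMod.IsFinLocFree P := fun x => by
    obtain ⟨U, hx, e⟩ := isFinLocFreeOfRank_one (isInvertible_tensorPow hL n) x
    exact ⟨U, 1, hx, e⟩
  obtain ⟨ep, -⟩ := exists_pullPowIso (j ≫ i) hL n
  let MP := CohB1.tensorMod ((Scheme.Modules.pullback i).obj P) M
  let e₁ : MP.restrict j ≅ CohB1.tensorMod M' (CohB1.tensorPow ((Scheme.Modules.pullback (j ≫ i)).obj L) n) :=
    (Scheme.Modules.restrictFunctorIsoPullback j).app MP ≪≫
      DCat.PullTensor.pullTensorIso j ((Scheme.Modules.pullback i).obj P) M ≪≫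
      tensorIso ((Scheme.Modules.pullbackComp j i).app P ≪≫ ep) (Iso.refl _) ≪≫ tensorComm _ _
  have hMPc : Coh.IsQCoh MP :=
    have := hM.1
    have : Coh.IsQCoh P := isQCoh_of_isInvertible (isInvertible_tensorPow hL n)
    have := EGA43.InjFibre.isQCoh_pullback i P
    isQCoh_tensorMod _ _
  have h1 : Subsingleton (Coh.HH (i ⁻¹ᵁ W).toScheme (MP.restrict j) 1) :=
    Serre.HH_subsingleton_of_iso Γ(Y, V.1) e₁.symm 1 (hN n hn 1 one_pos)
  have h2 : Subsingleton (Sheaf.H' (Coh.toAb ((Coh.push i).obj MP)) 1 W) :=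
    ((H'AffinePushEquiv i MP W 1).toEquiv.subsingleton_congr).1
      ((HHonEquiv MP (i ⁻¹ᵁ W) 1).toEquiv.subsingleton_congr.1 h1)
  refine subsingleton_H'_of_iso ?_ 1 W h2
  exact ((projIso (f := i) hP).app M).symm ≪≫ tensorComm _ _ ≪≫ tensorIso (clIso i hk).symm (Iso.refl P)

end Groth.Agent.Coherent.RelExact14
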